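import Mathlib
import Groth.Prelude.Def_DeRham

/-! Contraction on exterior powers and the Cartan formula for de Rham differentials. -/

set_option autoImplicit false
set_option linter.unusedSectionVars false

universe v u

open exteriorPower

namespace Groth.Agent.DeRhamPoincare

variable {R : Type v} {A M : Type u} [CommRing R] [CommRing A] [Algebra R A]
  [AddCommGroup M] [Module A M]

/-- contraction with a linear form -/
noncomputable def contract (φ : M →ₗ[A] A) (n : ℕ) : ↥(⋀[A]^(n + 1) M) →ₗ[A] ↥(⋀[A]^n M) :=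
  alternatingMapLinearEquiv (AlternatingMap.alternatizeUncurryFin (φ.smulRight (ιMulti A n (M := M))))

theorem contract_ιMulti (φ : M →ₗ[A] A) (n : ℕ) (v : Fin (n + 1) → M) :
    contract φ n (ιMulti A (n + 1) v) =
      ∑ i : Fin (n + 1), (-1 : ℤ) ^ (i : ℕ) • φ (v i) • ιMulti A n (Fin.removeNth i v) := by
  rw [contract, alternatingMapLinearEquiv_apply_ιMulti, AlternatingMap.alternatizeUncurryFin_apply]
  rfl

variable [Module R M] [IsScalarTower R A M] {δ : Derivation R A M}
  {d : ∀ p : ℕ, ↥(⋀[A]^p M) →ₗ[R] ↥(⋀[A]^(p + 1) M)}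

theorem cons_leibniz {p : ℕ} (a c : A) (w : Fin p → M) :
    ιMulti A (p + 1) (Fin.cons (δ (a * c)) w) =
      a • ιMulti A (p + 1) (Fin.cons (δ c) w) + c • ιMulti A (p + 1) (Fin.cons (δ a) w) := by
  have hadd := fun x y => (ιMulti A (p + 1) (M := M)).toMultilinearMap.cons_add w x y
  have hsmul := fun c x => (ιMulti A (p + 1) (M := M)).toMultilinearMap.cons_smul w c x
  simp only [AlternatingMap.coe_multilinearMap] at hadd hsmul
  rw [δ.leibniz, hadd, hsmul, hsmul]

/-- the Cartan formula on a wedge of differentials of functions homogeneous of given weights -/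
theorem cartan_weight (hd : DeRham.IsRule δ d) (φ : M →ₗ[A] A) (p : ℕ) (b₀ : A) (b : Fin (p + 1) → A)
    (w : Fin (p + 1) → ℕ) (hb : ∀ i, φ (δ (b i)) = w i • b i) :
    d p (contract φ p (DeRham.gen δ (p + 1) b₀ b)) + contract φ (p + 1) (d (p + 1) (DeRham.gen δ (p + 1) b₀ b)) =
      DeRham.gen δ (p + 1) (φ (δ b₀) + ((∑ i, w i : ℕ) : A) * b₀) b := by
  set v : Fin (p + 1) → M := fun i => δ (b i)
  have hg : contract φ p (DeRham.gen δ (p + 1) b₀ b) =
      ∑ i : Fin (p + 1), (-1 : ℤ) ^ (i : ℕ) • DeRham.gen δ p (b₀ * (w i • b i)) (Fin.removeNth i b) := by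
    rw [DeRham.gen, map_smul, contract_ιMulti, Finset.smul_sum]
    refine Finset.sum_congr rfl fun i _ => ?_
    rw [smul_comm, hb, smul_smul]
    rfl
  have hcons : ∀ i : Fin (p + 1),
      (-1 : ℤ) ^ (i : ℕ) • ιMulti A (p + 1) (Fin.cons (δ (b i)) (Fin.removeNth i v)) = ιMulti A (p + 1) v := fun i => by
    have h := (ιMulti A (p + 1) (M := M)).map_insertNth i (v i) (Fin.removeNth i v)
    rw [Fin.insertNth_self_removeNth] at h
    exact h.symm
  have hrem : ∀ i : Fin (p + 1), (Fin.removeNth i.succ (Fin.cons (δ b₀) v : Fin (p + 2) → M) : Fin (p + 1) → M) =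
      Fin.cons (δ b₀) (Fin.removeNth i v) := fun i => by
    funext j
    induction j using Fin.cases <;> simp [Fin.removeNth, Fin.succ_succAbove_succ]
  have hdg : ∀ i : Fin (p + 1), d p ((-1 : ℤ) ^ (i : ℕ) • DeRham.gen δ p (b₀ * (w i • b i)) (Fin.removeNth i b)) =
      w i • b₀ • ιMulti A (p + 1) v +
        (-1 : ℤ) ^ (i : ℕ) • (w i • b i) • ιMulti A (p + 1) (Fin.cons (δ b₀) (Fin.removeNth i v)) := fun i => by
    rw [map_zsmul, hd p, show (fun j => δ (Fin.removeNth i b j)) = Fin.removeNth i v from rfl, cons_leibniz,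
      smul_add, smul_comm _ b₀]
    congr 1
    rw [nsmul_eq_mul (w i) (b i), δ.leibniz, Derivation.map_natCast, smul_zero, add_zero,
      show ιMulti A (p + 1) (Fin.cons ((w i : A) • δ (b i)) (Fin.removeNth i v)) =
        (w i : A) • ιMulti A (p + 1) (Fin.cons (δ (b i)) (Fin.removeNth i v)) from
      (ιMulti A (p + 1) (M := M)).toMultilinearMap.cons_smul _ _ _,
      smul_comm _ (w i : A), hcons, Nat.cast_smul_eq_nsmul, smul_comm b₀]
  have hhd : contract φ (p + 1) (d (p + 1) (DeRham.gen δ (p + 1) b₀ b)) = φ (δ b₀) • ιMulti A (p + 1) v +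
      ∑ i : Fin (p + 1), -((-1 : ℤ) ^ (i : ℕ) • (w i • b i) • ιMulti A (p + 1) (Fin.cons (δ b₀) (Fin.removeNth i v))) := by
    rw [hd (p + 1), contract_ιMulti, Fin.sum_univ_succ]
    congr 1
    · simp [v]
    · refine Finset.sum_congr rfl fun i _ => ?_
      rw [show (fun j => δ (b j)) = v from rfl, Fin.cons_succ, hrem, Fin.val_succ, pow_succ, mul_neg_one, neg_smul]
      congr 3
      exact hb i
  rw [hg, map_sum, Finset.sum_congr rfl (fun i _ => hdg i), hhd, Finset.sum_add_distrib, Finset.sum_neg_distrib,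
    ← Finset.sum_smul, DeRham.gen, ← Nat.cast_smul_eq_nsmul A, smul_smul]
  simp only [add_smul, v]
  abel

/-- the Cartan formula on a wedge of differentials of functions homogeneous of weight one -/
theorem cartan (hd : DeRham.IsRule δ d) (φ : M →ₗ[A] A) (p : ℕ) (b₀ : A) (b : Fin (p + 1) → A)
    (hb : ∀ i, φ (δ (b i)) = b i) :
    d p (contract φ p (DeRham.gen δ (p + 1) b₀ b)) + contract φ (p + 1) (d (p + 1) (DeRham.gen δ (p + 1) b₀ b)) =
      DeRham.gen δ (p + 1) (φ (δ b₀) + ((p + 1 : ℕ) : A) * b₀) b := by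
  have h := cartan_weight hd φ p b₀ b (fun _ => 1) fun i => by rw [one_smul, hb]
  simpa using h

theorem cartan_zero (hd : DeRham.IsRule δ d) (φ : M →ₗ[A] A) (b₀ : A) (b : Fin 0 → A) :
    contract φ 0 (d 0 (DeRham.gen δ 0 b₀ b)) = DeRham.gen δ 0 (φ (δ b₀)) b := by
  rw [hd 0, contract_ιMulti, Fin.sum_univ_one]
  simp only [Fin.cons_zero, Fin.removeNth_zero, Fin.tail_cons, Fin.val_zero, pow_zero, one_smul]
  rfl

end Groth.Agent.DeRhamPoincare
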