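import Groth.Agent.DeRhamBasic.Map

/-! Functoriality of the de Rham complex for algebra maps. -/

set_option autoImplicit false
set_option linter.style.haveILetI false

universe u

open exteriorPower

namespace Groth.Agent.DeRhamPoincare

variable (R : Type u) [CommRing R] {A B : Type u} [CommRing A] [CommRing B] [Algebra R A] [Algebra R B]

theorem exists_cxMap (g : A →ₐ[R] B) : ∃ ψ : ∀ p : ℕ, ↥(⋀[A]^p (Ω[A⁄R])) →+ ↥(⋀[B]^p (Ω[B⁄R])),
    DeRham.IsCxMap (KaehlerDifferential.D R A) (KaehlerDifferential.D R B) g.toRingHom ψ := by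
  letI := g.toRingHom.toAlgebra
  haveI : IsScalarTower R A B := IsScalarTower.of_algebraMap_eq fun x => (g.commutes x).symm
  exact ⟨_, DeRhamBasic.cxMap_isCxMap R R A B⟩

theorem cxMap_comm {g : A →+* B} {ψ : ∀ p : ℕ, ↥(⋀[A]^p (Ω[A⁄R])) →+ ↥(⋀[B]^p (Ω[B⁄R]))}
    (hψ : DeRham.IsCxMap (KaehlerDifferential.D R A) (KaehlerDifferential.D R B) g ψ)
    {d : ∀ p : ℕ, ↥(⋀[A]^p (Ω[A⁄R])) →ₗ[R] ↥(⋀[A]^(p + 1) (Ω[A⁄R]))}
    (hd : DeRham.IsRule (KaehlerDifferential.D R A) d)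
    {d' : ∀ p : ℕ, ↥(⋀[B]^p (Ω[B⁄R])) →ₗ[R] ↥(⋀[B]^(p + 1) (Ω[B⁄R]))}
    (hd' : DeRham.IsRule (KaehlerDifferential.D R B) d') (p : ℕ) (x : ↥(⋀[A]^p (Ω[A⁄R]))) :
    ψ (p + 1) (d p x) = d' p (ψ p x) := by
  refine congrFun (DeRhamBasic.hom_ext (KaehlerDifferential.span_range_derivation R A)
    (f := fun x => ψ (p + 1) (d p x)) (g := fun x => d' p (ψ p x)) (fun x y => by simp) (fun x y => by simp)
    fun b₀ b => ?_) x
  show ψ (p + 1) (d p _) = d' p (ψ p _)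
  rw [hd, DeRhamBasic.cons_eq, DeRhamBasic.iota_eq_gen, hψ (p + 1), hψ p, hd', DeRhamBasic.cons_eq, map_one,
    DeRhamBasic.iota_eq_gen]
  congr 1
  funext i
  induction i using Fin.cases <;> simp

end Groth.Agent.DeRhamPoincare
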