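import Groth.Agent.DeRhamPoincare.Contract
import Groth.Agent.DeRhamPoincare.Functorial

/-! Homotopy invariance of de Rham cohomology over `ℚ`. -/

set_option autoImplicit false
set_option linter.style.haveILetI false

universe u

open exteriorPower Polynomial

namespace Groth.Agent.DeRhamPoincare

/-- a vanishing criterion for weight decompositions -/
theorem eq_zero_of_forall_sum_pow_smul {R : Type u} [CommRing R] [Algebra ℚ R] {V : Type*} [AddCommGroup V]
    [Module R V] {N : ℕ} (v : Fin N → V) (h : ∀ c : ℕ, ∑ m : Fin N, (c ^ (m : ℕ)) • v m = 0) (j : Fin N) : v j = 0 := by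
  classical
  let W : Matrix (Fin N) (Fin N) R := Matrix.vandermonde fun i => ((i : ℕ) : R)
  have hW : IsUnit W := by
    rw [Matrix.isUnit_iff_isUnit_det]
    have h1 : W.det = algebraMap ℚ R (Matrix.vandermonde fun i : Fin N => ((i : ℕ) : ℚ)).det := by
      rw [RingHom.map_det]
      congr 1
      ext a b
      simp [W, Matrix.vandermonde]
    rw [h1]
    refine (Ne.isUnit ?_).map _
    exact Matrix.det_vandermonde_ne_zero_iff.2 fun a b hab => Fin.ext (Nat.cast_injective hab)
  obtain ⟨U, hU⟩ := hW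
  calc v j = ∑ m, (((U⁻¹ : (Matrix (Fin N) (Fin N) R)ˣ) : Matrix (Fin N) (Fin N) R) * W) j m • v m := by
        rw [← hU, Units.inv_mul]
        simp [Matrix.one_apply, ite_smul]
    _ = ∑ i, ((U⁻¹ : (Matrix (Fin N) (Fin N) R)ˣ) : Matrix (Fin N) (Fin N) R) j i • ∑ m, W i m • v m := by
        simp only [Matrix.mul_apply, Finset.sum_smul, Finset.smul_sum, smul_smul]
        exact Finset.sum_comm
    _ = 0 := by
        refine Finset.sum_eq_zero fun i _ => ?_
        have hi : ∑ m, W i m • v m = ∑ m : Fin N, ((i : ℕ) ^ (m : ℕ)) • v m :=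
          Finset.sum_congr rfl fun m _ => by
            rw [← Nat.cast_smul_eq_nsmul R, Nat.cast_pow]
            simp [W, Matrix.vandermonde]
        rw [hi, h, smul_zero]

/-- additive decomposition along a family of subgroups -/
theorem exists_decomp {V : Type*} [AddCommGroup V] {W : ℕ → AddSubgroup V} {y : V}
    (hy : y ∈ AddSubgroup.closure (⋃ m, (W m : Set V))) :
    ∃ (N : ℕ) (v : Fin N → V), (∀ m : Fin N, v m ∈ W (m : ℕ)) ∧ y = ∑ m, v m := by
  classical
  suffices h : ∃ (s : Finset ℕ) (v : ℕ → V), (∀ m, v m ∈ W m) ∧ (∀ m ∉ s, v m = 0) ∧ y = ∑ m ∈ s, v m by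
    obtain ⟨s, v, hv, hs, rfl⟩ := h
    refine ⟨s.sup id + 1, fun m => v m, fun m => hv m, ?_⟩
    rw [Fin.sum_univ_eq_sum_range v]
    exact Finset.sum_subset (fun m hm => Finset.mem_range.2 (Nat.lt_succ_of_le (Finset.le_sup (f := id) hm)))
      fun m _ hm => hs m hm
  induction hy using AddSubgroup.closure_induction with
  | mem x hx =>
    obtain ⟨m, hm⟩ := Set.mem_iUnion.1 hx
    refine ⟨{m}, Pi.single m x, fun i => ?_, fun i hi => Pi.single_eq_of_ne (by simpa using hi) _, by simp⟩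
    by_cases h : i = m
    · subst h; rwa [Pi.single_eq_same]
    · rw [Pi.single_eq_of_ne h]; exact zero_mem _
  | zero => exact ⟨∅, 0, fun _ => zero_mem _, fun _ _ => rfl, rfl⟩
  | add x y _ _ hx hy =>
    obtain ⟨s, v, hv, hs, rfl⟩ := hx
    obtain ⟨t, w, hw, ht, rfl⟩ := hy
    refine ⟨s ∪ t, v + w, fun i => add_mem (hv i) (hw i), fun i hi => ?_, ?_⟩
    · rw [Finset.notMem_union] at hi
      simp [hs i hi.1, ht i hi.2]
    · rw [Finset.sum_subset Finset.subset_union_left fun i _ hi => hs i hi,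
        Finset.sum_subset (Finset.subset_union_right (s₁ := s)) fun i _ hi => ht i hi, ← Finset.sum_add_distrib]
      rfl
  | neg x _ hx =>
    obtain ⟨s, v, hv, hs, rfl⟩ := hx
    exact ⟨s, -v, fun i => neg_mem (hv i), fun i hi => by simp [hs i hi], by simp⟩

/-- the Lie derivative `d h + h d` on forms -/
noncomputable def lie {R : Type u} {P M : Type u} [CommRing R] [CommRing P] [Algebra R P]
    [AddCommGroup M] [Module P M] [Module R M] [IsScalarTower R P M]
    (d : ∀ p : ℕ, ↥(⋀[P]^p M) →ₗ[R] ↥(⋀[P]^(p + 1) M)) (φ : M →ₗ[P] P) :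
    ∀ q, ↥(⋀[P]^q M) →+ ↥(⋀[P]^q M)
  | 0 => (contract φ 0).toAddMonoidHom.comp (d 0).toAddMonoidHom
  | q + 1 => (d q).toAddMonoidHom.comp (contract φ q).toAddMonoidHom +
      (contract φ (q + 1)).toAddMonoidHom.comp (d (q + 1)).toAddMonoidHom

/-- forms homogeneous of weight `m` -/
def weightPiece {V V₀ : Type u} [AddCommGroup V] [AddCommGroup V₀] (M : ℕ → (V →+ V)) (L : V →+ V)
    (ψ : V₀ →+ V) (m : ℕ) : AddSubgroup V where
  carrier := {w | (∀ c, M c w = c ^ m • w) ∧ (m = 0 → ∃ x, ψ x = w) ∧ L w = m • w}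
  add_mem' := fun {a b} ⟨a1, a2, a3⟩ ⟨b1, b2, b3⟩ => ⟨fun c => by rw [map_add, a1, b1, smul_add],
    fun hm => (a2 hm).elim fun x hx => (b2 hm).elim fun y hy => ⟨x + y, by rw [map_add, hx, hy]⟩,
    by rw [map_add, a3, b3, smul_add]⟩
  zero_mem' := ⟨fun c => by rw [map_zero, smul_zero], fun _ => ⟨0, map_zero _⟩, by rw [map_zero, smul_zero]⟩
  neg_mem' := fun {a} ⟨a1, a2, a3⟩ => ⟨fun c => by rw [map_neg, a1, smul_neg],
    fun hm => (a2 hm).elim fun x hx => ⟨-x, by rw [map_neg, hx]⟩, by rw [map_neg, a3, smul_neg]⟩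

section Poly

variable (R A : Type u) [CommRing R] [CommRing A] [Algebra R A]

/-- generators of `A[X]` of weights `1` and `0` -/
noncomputable def el (o : Option A) : A[X] := o.elim X C

/-- their weights -/
def wt {A : Type u} (o : Option A) : ℕ := o.elim 1 fun _ => 0

theorem gen_scale (μ : A[X] →+* A[X]) (c : ℕ) (hC : ∀ a, μ (C a) = C a) (hX : μ X = (c : A[X]) * X)
    (q : ℕ) (a : A) (n : ℕ) (o : Fin q → Option A) :
    DeRham.gen (KaehlerDifferential.D R A[X]) q (μ (C a * X ^ n)) (fun j => μ (el A (o j))) =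
      (c ^ (n + ∑ j, wt (o j))) • DeRham.gen (KaehlerDifferential.D R A[X]) q (C a * X ^ n) (fun j => el A (o j)) := by
  have hel : ∀ j, KaehlerDifferential.D R A[X] (μ (el A (o j))) =
      ((c ^ wt (o j) : ℕ) : A[X]) • KaehlerDifferential.D R A[X] (el A (o j)) := fun j => by
    cases o j with
    | none =>
      show KaehlerDifferential.D R A[X] (μ X) = ((c ^ 1 : ℕ) : A[X]) • _
      rw [hX, Derivation.leibniz, Derivation.map_natCast, smul_zero, add_zero, pow_one]
      rfl
    | some b =>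
      show KaehlerDifferential.D R A[X] (μ (C b)) = ((c ^ 0 : ℕ) : A[X]) • _
      rw [hC, pow_zero, Nat.cast_one, one_smul]
      rfl
  rw [DeRham.gen, DeRham.gen, funext hel, ← AlternatingMap.coe_multilinearMap, MultilinearMap.map_smul_univ,
    AlternatingMap.coe_multilinearMap, smul_smul, ← Nat.cast_smul_eq_nsmul A[X], smul_smul, ← Nat.cast_prod,
    Finset.prod_pow_eq_pow_sum, map_mul, map_pow, hC, hX]
  congr 1
  push_cast
  ring

theorem euler_el (o : Option A) : X * derivative (el A o) = wt o • el A o := by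
  cases o <;> simp [el, wt]

theorem euler_mon (a : A) (n : ℕ) : X * derivative (C a * X ^ n) = n • (C a * X ^ n) := by
  rw [derivative_C_mul_X_pow, nsmul_eq_mul, map_mul, map_natCast]
  rcases n with _ | n
  · simp
  · rw [Nat.add_sub_cancel, pow_succ]; ring

theorem lie_gen (d' : ∀ p : ℕ, ↥(⋀[A[X]]^p (Ω[A[X]⁄R])) →ₗ[R] ↥(⋀[A[X]]^(p + 1) (Ω[A[X]⁄R])))
    (hd' : DeRham.IsRule (KaehlerDifferential.D R A[X]) d') (φ : Ω[A[X]⁄R] →ₗ[A[X]] A[X])
    (hφ : ∀ f, φ (KaehlerDifferential.D R A[X] f) = X * derivative f)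
    (q : ℕ) (a : A) (n : ℕ) (o : Fin q → Option A) :
    lie d' φ q (DeRham.gen (KaehlerDifferential.D R A[X]) q (C a * X ^ n) (fun j => el A (o j))) =
      (n + ∑ j, wt (o j)) • DeRham.gen (KaehlerDifferential.D R A[X]) q (C a * X ^ n) (fun j => el A (o j)) := by
  cases q with
  | zero =>
    show contract φ 0 (d' 0 _) = _
    rw [cartan_zero hd', hφ, euler_mon, DeRham.gen, DeRham.gen, Finset.univ_eq_empty, Finset.sum_empty, add_zero,
      smul_assoc]
  | succ q =>
    show d' q (contract φ q _) + contract φ (q + 1) (d' (q + 1) _) = _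
    rw [cartan_weight hd' φ q _ _ (fun j => wt (o j)) fun j => by rw [hφ, euler_el], hφ, euler_mon, DeRham.gen,
      DeRham.gen, ← Nat.cast_smul_eq_nsmul A[X] (n + _), smul_smul, nsmul_eq_mul, ← add_mul, ← Nat.cast_add]

theorem span_D_el : Submodule.span A[X] (Set.range fun o => KaehlerDifferential.D R A[X] (el A o)) = ⊤ := by
  rw [eq_top_iff, ← KaehlerDifferential.span_range_derivation, Submodule.span_le]
  rintro _ ⟨f, rfl⟩
  induction f using Polynomial.induction_on' with
  | add a b ha hb => rw [map_add]; exact add_mem ha hb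
  | monomial n a =>
    rw [← C_mul_X_pow_eq_monomial, Derivation.leibniz, Derivation.leibniz_pow]
    have hm : ∀ o : Option A, KaehlerDifferential.D R A[X] (el A o) ∈
        Submodule.span A[X] (Set.range fun o => KaehlerDifferential.D R A[X] (el A o)) :=
      fun o => Submodule.subset_span ⟨o, rfl⟩
    have h1 : KaehlerDifferential.D R A[X] (X : A[X]) ∈ _ := hm none
    have h2 : KaehlerDifferential.D R A[X] (C a) ∈ _ := hm (some a)
    exact add_mem (Submodule.smul_mem _ _ (nsmul_mem (Submodule.smul_mem _ _ h1) _)) (Submodule.smul_mem _ _ h2)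

theorem mem_closure_gen (q : ℕ) (S : AddSubgroup ↥(⋀[A[X]]^q (Ω[A[X]⁄R])))
    (h : ∀ (a : A) (n : ℕ) (o : Fin q → Option A),
      DeRham.gen (KaehlerDifferential.D R A[X]) q (C a * X ^ n) (fun j => el A (o j)) ∈ S)
    (y : ↥(⋀[A[X]]^q (Ω[A[X]⁄R]))) : y ∈ S := by
  have hy : y ∈ Submodule.span A[X] (ιMulti A[X] q '' {v | Set.range v ⊆
      Set.range fun o => KaehlerDifferential.D R A[X] (el A o)}) := by
    rw [ιMulti_span_of_span A[X] q (Ω[A[X]⁄R]) (span_D_el R A)]; trivial
  suffices h' : ∀ f : A[X], f • y ∈ S by simpa using h' 1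
  induction hy using Submodule.span_induction with
  | mem z hz =>
    obtain ⟨v, hv, rfl⟩ := hz
    choose o ho using fun j => hv (Set.mem_range_self j)
    intro f
    induction f using Polynomial.induction_on' with
    | add a b ha hb => rw [add_smul]; exact add_mem ha hb
    | monomial n a =>
      rw [← C_mul_X_pow_eq_monomial, show v = fun j => KaehlerDifferential.D R A[X] (el A (o j)) from
        funext fun j => (ho j).symm]
      exact h a n o
  | zero => intro f; rw [smul_zero]; exact zero_mem _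
  | add x z _ _ hx hz => intro f; rw [smul_add]; exact add_mem (hx f) (hz f)
  | smul g x _ hx => intro f; rw [smul_smul]; exact hx _

end Poly

theorem poincare (R A : Type u) [CommRing R] [CommRing A] [Algebra R A] [Algebra ℚ R]
    (d : ∀ p : ℕ, ↥(⋀[A]^p (Ω[A⁄R])) →ₗ[R] ↥(⋀[A]^(p + 1) (Ω[A⁄R])))
    (hd : DeRham.IsDiff (KaehlerDifferential.D R A) d)
    (d' : ∀ p : ℕ, ↥(⋀[A[X]]^p (Ω[A[X]⁄R])) →ₗ[R] ↥(⋀[A[X]]^(p + 1) (Ω[A[X]⁄R])))
    (hd' : DeRham.IsDiff (KaehlerDifferential.D R A[X]) d')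
    (ψ : ∀ p : ℕ, ↥(⋀[A]^p (Ω[A⁄R])) →+ ↥(⋀[A[X]]^p (Ω[A[X]⁄R])))
    (hψ : DeRham.IsCxMap (KaehlerDifferential.D R A) (KaehlerDifferential.D R A[X]) (algebraMap A A[X]) ψ)
    (hcomm : ∀ (p : ℕ) (x : ↥(⋀[A]^p (Ω[A⁄R]))), ψ (p + 1) (d p x) = d' p (ψ p x)) (i : ℕ) :
    (∀ y ∈ DeRham.cocycles d' i, ∃ x ∈ DeRham.cocycles d i, y - ψ i x ∈ DeRham.coboundaries d' i) ∧
      (∀ x ∈ DeRham.cocycles d i, ψ i x ∈ DeRham.coboundaries d' i → x ∈ DeRham.coboundaries d i) := by
  classical
  let π₀ : A[X] →ₐ[R] A := (Polynomial.aeval (0 : A)).restrictScalars R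
  obtain ⟨π, hπ⟩ := exists_cxMap R π₀
  have hπψ : ∀ p x, π p (ψ p x) = x := fun p x => congrFun (DeRhamBasic.hom_ext
    (KaehlerDifferential.span_range_derivation R A) (f := fun x => π p (ψ p x)) (g := fun x => x)
    (fun x y => by simp) (fun _ _ => rfl) (fun b₀ b => by
      show π p (ψ p _) = _
      rw [hψ, hπ]
      simp [π₀])) x
  have hπd : ∀ p x, π (p + 1) (d' p x) = d p (π p x) := fun p x => cxMap_comm R hπ hd'.1 hd.1 p x
  let μ : ℕ → (A[X] →ₐ[R] A[X]) := fun c => (Polynomial.aeval ((c : A[X]) * X)).restrictScalars R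
  choose M hM using fun c => exists_cxMap R (μ c)
  have hMd : ∀ c p x, M c (p + 1) (d' p x) = d' p (M c p x) := fun c p x => cxMap_comm R (hM c) hd'.1 hd'.1 p x
  let E : Derivation R A[X] A[X] := (X : A[X]) • (Polynomial.derivative' (R := A)).restrictScalars R
  let φ : Ω[A[X]⁄R] →ₗ[A[X]] A[X] := E.liftKaehlerDifferential
  have hφ : ∀ f, φ (KaehlerDifferential.D R A[X] f) = X * derivative f := fun f =>
    E.liftKaehlerDifferential_comp_D f
  let W : ∀ q : ℕ, ℕ → AddSubgroup ↥(⋀[A[X]]^q (Ω[A[X]⁄R])) := fun q m =>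
    weightPiece (fun c => M c q) (lie d' φ q) (ψ q) m
  have helem : ∀ q (a : A) (n : ℕ) (o : Fin q → Option A),
      DeRham.gen (KaehlerDifferential.D R A[X]) q (C a * X ^ n) (fun j => el A (o j)) ∈ W q (n + ∑ j, wt (o j)) := by
    intro q a n o
    refine ⟨fun c => ?_, fun hm => ?_, lie_gen R A d' hd'.1 φ hφ q a n o⟩
    · refine (hM c q _ _).trans ?_
      exact gen_scale R A (μ c).toRingHom c (fun b => by simp [μ]) (by simp [μ]) q a n o
    · have hw : ∀ j, wt (o j) = 0 := fun j => by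
        have := Finset.single_le_sum (fun k _ => Nat.zero_le (wt (o k))) (Finset.mem_univ j)
        omega
      obtain rfl : n = 0 := by omega
      refine ⟨DeRham.gen (KaehlerDifferential.D R A) q a (fun j => (o j).getD 0), ?_⟩
      rw [hψ, pow_zero, mul_one]
      congr 1
      funext j
      have := hw j
      cases h : o j <;> simp_all [wt, el]
  have hdec : ∀ q (y : ↥(⋀[A[X]]^q (Ω[A[X]⁄R]))), y ∈ AddSubgroup.closure (⋃ m, (W q m : Set _)) := fun q =>
    mem_closure_gen R A q _ fun a n o => AddSubgroup.subset_closure (Set.mem_iUnion.2 ⟨_, helem q a n o⟩)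
  refine ⟨fun y hy => ?_, fun x hx hψx => ?_⟩
  · obtain ⟨N, v, hv, rfl⟩ := exists_decomp (hdec i y)
    have hdy : d' i (∑ m, v m) = 0 := hy
    rw [map_sum] at hdy
    have hdv : ∀ m, d' i (v m) = 0 := eq_zero_of_forall_sum_pow_smul (R := R) (fun m => d' i (v m)) fun c => by
      have h1 := congrArg (M c (i + 1)) hdy
      rw [map_sum, map_zero] at h1
      refine Eq.trans ?_ h1
      refine Finset.sum_congr rfl fun m _ => ?_
      rw [hMd, (hv m).1, map_nsmul]
    rcases Nat.eq_zero_or_pos N with rfl | hN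
    · refine ⟨0, zero_mem _, ?_⟩
      simp only [Finset.univ_eq_empty, Finset.sum_empty, map_zero, sub_zero]
      exact zero_mem _
    obtain ⟨x, hx⟩ := (hv ⟨0, hN⟩).2.1 rfl
    refine ⟨x, ?_, ?_⟩
    · show d i x = 0
      rw [← hπψ (i + 1) (d i x), hcomm, hx, hdv, map_zero]
    · rw [hx, ← Finset.add_sum_erase _ _ (Finset.mem_univ (⟨0, hN⟩ : Fin N)), add_sub_cancel_left]
      refine sum_mem fun m hm => ?_
      have hm0 : (m : ℕ) ≠ 0 := fun h => Finset.ne_of_mem_erase hm (Fin.ext h)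
      have hu : IsUnit ((m : ℕ) : R) := by
        rw [← map_natCast (algebraMap ℚ R)]
        exact (Ne.isUnit (Nat.cast_ne_zero.2 hm0)).map _
      obtain ⟨u, hu⟩ := hu
      cases i with
      | zero =>
        have h2 : contract φ 0 (d' 0 (v m)) = (m : ℕ) • v m := (hv m).2.2
        rw [hdv, map_zero, ← Nat.cast_smul_eq_nsmul R, ← hu] at h2
        rw [(Units.isUnit u).smul_eq_zero.1 h2.symm]
        exact zero_mem _
      | succ q =>
        have h2 : d' q (contract φ q (v m)) + contract φ (q + 1) (d' (q + 1) (v m)) = (m : ℕ) • v m := (hv m).2.2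
        rw [hdv, map_zero, add_zero, ← Nat.cast_smul_eq_nsmul R, ← hu] at h2
        refine ⟨(↑u⁻¹ : R) • contract φ q (v m), ?_⟩
        rw [map_smul, h2, smul_smul, Units.inv_mul, one_smul]
  · cases i with
    | zero =>
      have h0 : ψ 0 x = 0 := hψx
      show x = 0
      rw [← hπψ 0 x, h0, map_zero]
    | succ q =>
      obtain ⟨w, hw⟩ := hψx
      exact ⟨π q w, by rw [← hπd, hw, hπψ]⟩

end Groth.Agent.DeRhamPoincare
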