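import Groth.Agent.DeRhamPoincare.Contract
import Groth.Agent.DeRhamBasic.Gen

/-! The formal Poincaré lemma. -/

set_option autoImplicit false
set_option linter.style.haveILetI false

universe u

open exteriorPower MvPowerSeries

namespace Groth.Agent.DeRhamPoincare

variable {k : Type u} [Field k] {σ : Type u}

theorem coeff_pderiv_mul_X (f : MvPowerSeries σ k) (i : σ) (m : σ →₀ ℕ) :
    coeff m (pderiv k i f * X i) = (m i : k) * coeff m f := by
  classical
  rw [X_def, coeff_mul_monomial]
  split_ifs with h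
  · rw [mul_one, coeff_pderiv, tsub_add_cancel_of_le h]
    have h1 : 1 ≤ m i := Finsupp.single_le_iff.1 h
    rw [Finsupp.tsub_apply, Finsupp.single_eq_same, Nat.cast_sub h1, Nat.cast_one, sub_add_cancel, mul_comm]
  · have h1 : m i = 0 := by
      by_contra h0
      exact h (Finsupp.single_le_iff.2 (Nat.one_le_iff_ne_zero.2 h0))
    rw [h1, Nat.cast_zero, zero_mul]

/-- the Euler operator shifted by `n` -/
noncomputable def eulerShift [Fintype σ] (n : ℕ) (f : MvPowerSeries σ k) : MvPowerSeries σ k :=
  (∑ i, pderiv k i f * X i) + (n : MvPowerSeries σ k) * f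

theorem coeff_eulerShift [Fintype σ] (n : ℕ) (f : MvPowerSeries σ k) (m : σ →₀ ℕ) :
    coeff m (eulerShift n f) = (((∑ i, m i) + n : ℕ) : k) * coeff m f := by
  rw [eulerShift, map_add, map_sum, Finset.sum_congr rfl (fun i _ => coeff_pderiv_mul_X f i m), ← Finset.sum_mul,
    ← nsmul_eq_mul, map_nsmul, nsmul_eq_mul, Nat.cast_add, Nat.cast_sum, add_mul]

theorem eulerShift_injective [Fintype σ] [CharZero k] (n : ℕ) :
    Function.Injective (eulerShift (σ := σ) (k := k) (n + 1)) := fun f g h => MvPowerSeries.ext fun m => by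
  have h1 := congrArg (coeff m) h
  rw [coeff_eulerShift, coeff_eulerShift] at h1
  exact mul_left_cancel₀ (Nat.cast_ne_zero.2 (by omega)) h1

theorem exists_eulerShift_eq [Fintype σ] [CharZero k] (n : ℕ) (g : MvPowerSeries σ k)
    (hg : n = 0 → coeff 0 g = 0) : ∃ f, eulerShift n f = g := by
  classical
  let f : MvPowerSeries σ k := fun m => coeff m g / (((∑ i, m i) + n : ℕ) : k)
  refine ⟨f, MvPowerSeries.ext fun m => ?_⟩
  rw [coeff_eulerShift, show coeff m f = coeff m g / (((∑ i, m i) + n : ℕ) : k) from rfl]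
  by_cases h : (∑ i, m i) + n = 0
  · have hm : m = 0 := Finsupp.ext fun i => by
      have := Finset.single_le_sum (fun j _ => Nat.zero_le (m j)) (Finset.mem_univ i)
      simp only [Finsupp.coe_zero, Pi.zero_apply]
      omega
    rw [hm, hg (by omega), zero_div, mul_zero]
  · rw [mul_div_cancel₀ _ (Nat.cast_ne_zero.2 h)]

theorem cocycles_le_coboundaries [Fintype σ] [LinearOrder σ] [CharZero k]
    (δ : Derivation k (MvPowerSeries σ k) (σ → MvPowerSeries σ k))
    (hδ : ∀ (f : MvPowerSeries σ k) (i : σ), δ f i = MvPowerSeries.pderiv k i f)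
    (d : ∀ p : ℕ, ↥(⋀[MvPowerSeries σ k]^p (σ → MvPowerSeries σ k)) →ₗ[k]
      ↥(⋀[MvPowerSeries σ k]^(p + 1) (σ → MvPowerSeries σ k)))
    (hd : DeRham.IsDiff δ d) (p : ℕ) :
    DeRham.cocycles d (p + 1) ≤ DeRham.coboundaries d (p + 1) := by
  classical
  let A := MvPowerSeries σ k
  let b₀ : Module.Basis σ A (σ → A) := Pi.basisFun A σ
  let φ : (σ → A) →ₗ[A] A := Fintype.linearCombination A (fun i => (X i : A))
  have hφ : ∀ f : A, φ (δ f) = ∑ i, MvPowerSeries.pderiv k i f * X i := fun f => by
    simp [φ, A, Fintype.linearCombination_apply, hδ]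
  have hX : ∀ i : σ, δ (X i : A) = b₀ i := fun i => funext fun j => by
    rw [hδ, MvPowerSeries.pderiv_X, Pi.basisFun_apply]
    by_cases h : i = j
    · subst h; simp
    · rw [Pi.single_eq_of_ne h, Pi.single_eq_of_ne (Ne.symm h)]
  have hφX : ∀ i : σ, φ (δ (X i : A)) = X i := fun i => by
    rw [hφ, Finset.sum_eq_single i (fun j _ hj => by rw [pderiv_X_of_ne (Ne.symm hj), zero_mul]) (by simp),
      pderiv_X_self, one_mul]
  -- the Lie derivative on each degree
  let L : ∀ q : ℕ, ↥(⋀[A]^(q + 1) (σ → A)) →+ ↥(⋀[A]^(q + 1) (σ → A)) := fun q =>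
    (d q).toAddMonoidHom.comp (contract φ q).toAddMonoidHom +
      (contract φ (q + 1)).toAddMonoidHom.comp (d (q + 1)).toAddMonoidHom
  have hL : ∀ (q : ℕ) (f : A) S, L q (f • (b₀.exteriorPower (q + 1)) S) =
      eulerShift (q + 1) f • (b₀.exteriorPower (q + 1)) S := by
    intro q f S
    let c : Fin (q + 1) → A := fun i => X (Set.powersetCard.ofFinEmbEquiv.symm S i)
    have hS : ∀ g : A, g • (b₀.exteriorPower (q + 1)) S = DeRham.gen δ (q + 1) g c := fun g => by
      rw [exteriorPower.basis_apply, DeRham.gen, exteriorPower.ιMulti_family]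
      congr 2
      funext i
      exact (hX _).symm
    rw [hS, hS]
    refine (cartan hd.1 φ q f c fun i => hφX _).trans ?_
    rw [eulerShift, hφ]
  have hrepr : ∀ (q : ℕ) x S, (b₀.exteriorPower (q + 1)).repr (L q x) S =
      eulerShift (q + 1) ((b₀.exteriorPower (q + 1)).repr x S) := by
    intro q x S
    conv_lhs => rw [← (b₀.exteriorPower (q + 1)).sum_repr x, map_sum]
    simp only [hL, map_sum, map_smul, Module.Basis.repr_self, Finsupp.coe_finsetSum, Finset.sum_apply,
      Finsupp.smul_apply, smul_eq_mul]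
    rw [Finset.sum_eq_single S (fun b _ hb => by rw [Finsupp.single_eq_of_ne hb.symm, mul_zero]) (by simp),
      Finsupp.single_eq_same, mul_one]
  intro ω hω
  have hω : d (p + 1) ω = 0 := hω
  have hinj : Function.Injective (L p) := fun x y h => (b₀.exteriorPower (p + 1)).ext_elem fun S =>
    eulerShift_injective p (by rw [← hrepr, ← hrepr, h])
  have hLω : L p ω = d p (contract φ p ω) := by simp [L, hω]
  -- a preimage of `contract φ p ω`
  suffices h : ∃ η, d p (contract φ p ω) = L p (d p η) by
    obtain ⟨η, hη⟩ := h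
    exact ⟨η, (hinj (hLω.trans hη)).symm⟩
  cases p with
  | zero =>
    obtain ⟨f, hf⟩ := exists_eulerShift_eq 0 (exteriorPower.zeroEquiv A (σ → A) (contract φ 0 ω)) fun _ => by
      have : ∀ x, coeff 0 (exteriorPower.zeroEquiv A (σ → A) (contract φ 0 x)) = 0 := fun x => by
        conv_lhs => rw [← (b₀.exteriorPower 1).sum_repr x]
        simp only [map_sum, map_smul, exteriorPower.basis_apply, exteriorPower.ιMulti_family, contract_ιMulti,
          Function.comp_apply, exteriorPower.zeroEquiv_ιMulti, smul_eq_mul, mul_one]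
        refine Finset.sum_eq_zero fun S _ => ?_
        rw [coeff_zero_eq_constantCoeff, map_mul, map_sum]
        refine mul_eq_zero_of_right _ (Finset.sum_eq_zero fun i _ => ?_)
        rw [map_zsmul, map_zsmul, map_smul, ← hX, hφX, smul_eq_mul, map_mul, constantCoeff_X, zero_mul, smul_zero]
      exact this ω
    refine ⟨DeRham.gen δ 0 f Fin.elim0, ?_⟩
    have h2 : L 0 (d 0 (DeRham.gen δ 0 f Fin.elim0)) = d 0 (contract φ 0 (d 0 (DeRham.gen δ 0 f Fin.elim0))) := by
      have h3 := LinearMap.congr_fun (hd.2 0) (DeRham.gen δ 0 f Fin.elim0)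
      simp only [LinearMap.comp_apply, LinearMap.zero_apply] at h3
      simp [L, h3]
    rw [h2, cartan_zero hd.1, hφ]
    congr 1
    refine (exteriorPower.zeroEquiv A (σ → A)).injective ?_
    rw [← hf, DeRham.gen, map_smul, exteriorPower.zeroEquiv_ιMulti, smul_eq_mul, mul_one]
    simp [eulerShift]
  | succ q =>
    choose f hf using fun S => exists_eulerShift_eq (k := k) (σ := σ) (q + 1)
      ((b₀.exteriorPower (q + 1)).repr (contract φ (q + 1) ω) S) (fun h => absurd h (by omega))
    let η := ∑ S, f S • (b₀.exteriorPower (q + 1)) S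
    have hη : L q η = contract φ (q + 1) ω := by
      refine (b₀.exteriorPower (q + 1)).ext_elem fun S => ?_
      rw [hrepr, ← hf]
      congr 1
      simp only [η, map_sum, map_smul, Module.Basis.repr_self, Finsupp.coe_finsetSum, Finset.sum_apply,
        Finsupp.smul_apply, smul_eq_mul]
      rw [Finset.sum_eq_single S (fun b _ hb => by rw [Finsupp.single_eq_of_ne hb.symm, mul_zero]) (by simp),
        Finsupp.single_eq_same, mul_one]
    refine ⟨η, ?_⟩
    rw [← hη]
    have h0 := LinearMap.congr_fun (hd.2 q) (contract φ q η)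
    have h1 := LinearMap.congr_fun (hd.2 (q + 1)) η
    simp only [LinearMap.comp_apply, LinearMap.zero_apply] at h0 h1
    simp [L, h0, h1]

end Groth.Agent.DeRhamPoincare
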